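import Cfsg.Agent.H824.Wei.F4Tor
import Cfsg.Agent.H436.Names
import Cfsg.Agent.H436.Ppd
import Cfsg.Agent.H563.KG.Core

/-!
# `F₄(q)` has no subgroup `PSU₃(q²)` (helper824)
-/

set_option autoImplicit false

namespace Cfsg.Agent.H824.Wei

open Cfsg Cfsg.Agent.OrdDiv Cfsg.Agent.H436 Cfsg.Lie Matrix

section SU

variable {F : Type} [Field F] {Q s : ℕ} {η θ : F}

theorem mem_SU {g : Matrix.SpecialLinearGroup (Fin 3) F} : g ∈ SU 3 F Q ↔
    ∀ u v : Fin 3 → F, hermForm 3 F Q ((g : Matrix (Fin 3) (Fin 3) F) *ᵥ u) ((g : Matrix (Fin 3) (Fin 3) F) *ᵥ v) =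
      hermForm 3 F Q u v := Iff.rfl

/-- the diagonal matrix with entries `a b c` -/
def dg (a b c : F) (h : a * b * c = 1) : Matrix.SpecialLinearGroup (Fin 3) F :=
  ⟨!![a, 0, 0; 0, b, 0; 0, 0, c], by rw [Matrix.det_fin_three]; simp [h]⟩

theorem dg_mem {a b c : F} (h : a * b * c = 1) (ha : a ^ (Q + 1) = 1) (hb : b ^ (Q + 1) = 1) (hc : c ^ (Q + 1) = 1) :
    dg a b c h ∈ SU 3 F Q := by
  rw [mem_SU]
  intro u v
  simp only [hermForm, dg, Fin.sum_univ_three, Matrix.mulVec, dotProduct, Matrix.of_apply, Matrix.cons_val_zero,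
    Matrix.cons_val_one, Matrix.cons_val, zero_mul, add_zero, zero_add, mul_pow]
  rw [pow_succ] at ha hb hc
  linear_combination (u 0 * v 0 ^ Q) * ha + (u 1 * v 1 ^ Q) * hb + (u 2 * v 2 ^ Q) * hc

/-- minus the permutation of the last two vectors -/
def s1 : Matrix.SpecialLinearGroup (Fin 3) F :=
  ⟨!![-1, 0, 0; 0, 0, -1; 0, -1, 0], by rw [Matrix.det_fin_three]; simp⟩

/-- minus the permutation of the first and the last vector -/
def s2 : Matrix.SpecialLinearGroup (Fin 3) F :=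
  ⟨!![0, 0, -1; 0, -1, 0; -1, 0, 0], by rw [Matrix.det_fin_three]; simp⟩

theorem s1_mem (hQ : (-1 : F) ^ (Q + 1) = 1) : s1 ∈ SU 3 F Q := by
  rw [mem_SU]
  intro u v
  simp only [hermForm, s1, Fin.sum_univ_three, Matrix.mulVec, dotProduct, Matrix.of_apply, Matrix.cons_val_zero,
    Matrix.cons_val_one, Matrix.cons_val, zero_mul, add_zero, zero_add, mul_pow]
  rw [pow_succ] at hQ
  linear_combination (u 0 * v 0 ^ Q + u 1 * v 1 ^ Q + u 2 * v 2 ^ Q) * hQ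

theorem s2_mem (hQ : (-1 : F) ^ (Q + 1) = 1) : s2 ∈ SU 3 F Q := by
  rw [mem_SU]
  intro u v
  simp only [hermForm, s2, Fin.sum_univ_three, Matrix.mulVec, dotProduct, Matrix.of_apply, Matrix.cons_val_zero,
    Matrix.cons_val_one, Matrix.cons_val, zero_mul, add_zero, zero_add, mul_pow]
  rw [pow_succ] at hQ
  linear_combination (u 0 * v 0 ^ Q + u 1 * v 1 ^ Q + u 2 * v 2 ^ Q) * hQ

theorem dg_mul {a b c a' b' c' : F} (h : a * b * c = 1) (h' : a' * b' * c' = 1) :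
    dg a b c h * dg a' b' c' h' = dg (a * a') (b * b') (c * c') (by linear_combination h * (a' * b' * c') + h') := by
  apply Subtype.ext
  show (!![a, 0, 0; 0, b, 0; 0, 0, c] * !![a', 0, 0; 0, b', 0; 0, 0, c'] : Matrix (Fin 3) (Fin 3) F) = _
  ext i j
  fin_cases i <;> fin_cases j <;> simp [dg, Matrix.mul_apply, Fin.sum_univ_three]

theorem dg_one : dg (1 : F) 1 1 (by ring) = 1 := by
  apply Subtype.ext
  ext i j
  fin_cases i <;> fin_cases j <;> simp [dg]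

theorem dg_pow {a b c : F} (h : a * b * c = 1) (n : ℕ) :
    dg a b c h ^ n = dg (a ^ n) (b ^ n) (c ^ n) (by rw [← mul_pow, ← mul_pow, h, one_pow]) := by
  induction n with
  | zero =>
    rw [pow_zero, ← dg_one]
    congr 1 <;> simp
  | succ n ih =>
    rw [pow_succ, ih, dg_mul]
    congr 1 <;> rw [pow_succ]

theorem s1_dg {a b c : F} (h : a * b * c = 1) : s1 * dg a b c h = dg a c b (by rw [← h]; ring) * s1 := by
  apply Subtype.ext
  show (!![-1, 0, 0; 0, 0, -1; 0, -1, 0] * !![a, 0, 0; 0, b, 0; 0, 0, c] : Matrix (Fin 3) (Fin 3) F) =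
    (!![a, 0, 0; 0, c, 0; 0, 0, b] * !![-1, 0, 0; 0, 0, -1; 0, -1, 0] : Matrix (Fin 3) (Fin 3) F)
  ext i j
  fin_cases i <;> fin_cases j <;> simp [Matrix.mul_apply, Fin.sum_univ_three]

theorem s2_dg {a b c : F} (h : a * b * c = 1) : s2 * dg a b c h = dg c b a (by rw [← h]; ring) * s2 := by
  apply Subtype.ext
  show (!![0, 0, -1; 0, -1, 0; -1, 0, 0] * !![a, 0, 0; 0, b, 0; 0, 0, c] : Matrix (Fin 3) (Fin 3) F) =
    (!![c, 0, 0; 0, b, 0; 0, 0, a] * !![0, 0, -1; 0, -1, 0; -1, 0, 0] : Matrix (Fin 3) (Fin 3) F)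
  ext i j
  fin_cases i <;> fin_cases j <;> simp [Matrix.mul_apply, Fin.sum_univ_three]

theorem dg_inj {a b c a' b' c' : F} {h : a * b * c = 1} {h' : a' * b' * c' = 1} (e : dg a b c h = dg a' b' c' h') :
    a = a' ∧ b = b' ∧ c = c' := by
  have h1 := congrArg (fun g : Matrix.SpecialLinearGroup (Fin 3) F => (g : Matrix (Fin 3) (Fin 3) F)) e
  refine ⟨?_, ?_, ?_⟩
  · have := congrFun (congrFun h1 0) 0
    simpa [dg] using this
  · have := congrFun (congrFun h1 1) 1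
    simpa [dg] using this
  · have := congrFun (congrFun h1 2) 2
    simpa [dg] using this

theorem neg_one_pow_Q [Fintype F] (hF : Fintype.card F = Q ^ 2) : (-1 : F) ^ (Q + 1) = 1 := by
  rcases Nat.even_or_odd Q with h | h
  · have h1 : ringChar F = 2 := by
      rw [FiniteField.even_card_iff_char_two, hF, ← Nat.even_iff]
      exact h.pow_of_ne_zero (by norm_num)
    have h2 : CharP F 2 := by rw [← h1]; exact ringChar.charP F
    rw [CharTwo.neg_eq, one_pow]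
  · exact (h.add_odd odd_one).neg_one_pow

/-- **The configuration in `PSU₃(Q)`.** -/
theorem exists_conf [Fintype F] (hF : Fintype.card F = Q ^ 2) (hs : s.Prime) (h5 : 5 ≤ s) (hsQ : s ∣ Q + 1) :
    ∃ (e : Fin 2 → PSU 3 F Q) (n₁ n₂ : PSU 3 F Q), (∀ i, e i ^ s = 1) ∧ e 0 * e 1 = e 1 * e 0 ∧
      (∀ c : Fin 2 → ℕ, e 0 ^ c 0 * e 1 ^ c 1 = 1 → ∀ i, s ∣ c i) ∧ n₁ * e 0 = e 0 * n₁ ∧
      n₁ * e 1 = (e 0 * e 1)⁻¹ * n₁ ∧ n₂ * e 1 = e 1 * n₂ ∧ n₂ * e 0 = (e 0 * e 1)⁻¹ * n₂ := by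
  classical
  have hsF : Fact s.Prime := ⟨hs⟩
  have hm1 := neg_one_pow_Q hF
  obtain ⟨u, hu⟩ := exists_prime_orderOf_dvd_card' (G := Fˣ) s (by
    rw [Nat.card_eq_fintype_card, Fintype.card_units, hF]
    have h1 : Q ^ 2 - 1 = (Q + 1) * (Q - 1) := by
      have := Nat.sq_sub_sq Q 1
      rwa [one_pow] at this
    rw [h1]
    exact hsQ.mul_right _)
  obtain ⟨η, hη⟩ : ∃ η : F, η = (u : F) := ⟨_, rfl⟩
  have hord : orderOf η = s := by rw [hη, orderOf_units, hu]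
  have hηs : η ^ s = 1 := by rw [← hord, pow_orderOf_eq_one]
  have hη0 : η ≠ 0 := by rw [hη]; exact u.ne_zero
  have hηQ : η ^ (Q + 1) = 1 := by
    obtain ⟨m, hm⟩ := hsQ
    rw [hm, pow_mul, hηs, one_pow]
  obtain ⟨θ, hθ⟩ : ∃ θ : F, θ = η ^ (s - 2) := ⟨_, rfl⟩
  have hθη : θ * η * η = 1 := by
    rw [hθ, mul_assoc, ← sq, ← pow_add]
    have : s - 2 + 2 = s := by omega
    rw [this, hηs]
  have hθs : θ ^ s = 1 := by rw [hθ, ← pow_mul, mul_comm, pow_mul, hηs, one_pow]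
  have hθQ : θ ^ (Q + 1) = 1 := by rw [hθ, ← pow_mul, mul_comm, pow_mul, hηQ, one_pow]
  have hηθη : η * θ * η = 1 := by rw [mul_comm η θ, hθη]
  have hx0 : dg θ η η hθη ∈ SU 3 F Q := dg_mem hθη hθQ hηQ hηQ
  have hx1 : dg η θ η hηθη ∈ SU 3 F Q := dg_mem hηθη hηQ hθQ hηQ
  obtain ⟨x0, hx0'⟩ : ∃ x : SU 3 F Q, x = ⟨_, hx0⟩ := ⟨_, rfl⟩
  obtain ⟨x1, hx1'⟩ : ∃ x : SU 3 F Q, x = ⟨_, hx1⟩ := ⟨_, rfl⟩
  obtain ⟨y1, hy1⟩ : ∃ x : SU 3 F Q, x = ⟨_, s1_mem hm1⟩ := ⟨_, rfl⟩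
  obtain ⟨y2, hy2⟩ : ∃ x : SU 3 F Q, x = ⟨_, s2_mem hm1⟩ := ⟨_, rfl⟩
  have hdg : ∀ {a b c a' b' c' : F} {h : a * b * c = 1} {h' : a' * b' * c' = 1}, a = a' → b = b' → c = c' →
      dg a b c h = dg a' b' c' h' := by
    intro a b c a' b' c' h h' e1 e2 e3
    subst e1 e2 e3
    rfl
  have r1 : x0 ^ s = 1 := by
    apply Subtype.ext
    rw [hx0']
    show dg θ η η hθη ^ s = 1
    rw [dg_pow, ← dg_one]
    exact hdg hθs hηs hηs
  have r2 : x1 ^ s = 1 := by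
    apply Subtype.ext
    rw [hx1']
    show dg η θ η hηθη ^ s = 1
    rw [dg_pow, ← dg_one]
    exact hdg hηs hθs hηs
  have r3 : x0 * x1 = x1 * x0 := by
    apply Subtype.ext
    rw [hx0', hx1']
    show dg θ η η hθη * dg η θ η hηθη = dg η θ η hηθη * dg θ η η hθη
    rw [dg_mul, dg_mul]
    exact hdg (mul_comm _ _) (mul_comm _ _) rfl
  have r4 : y1 * x0 = x0 * y1 := by
    apply Subtype.ext
    rw [hx0', hy1]
    show s1 * dg θ η η hθη = dg θ η η hθη * s1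
    rw [s1_dg]
  have r5 : y2 * x1 = x1 * y2 := by
    apply Subtype.ext
    rw [hx1', hy2]
    show s2 * dg η θ η hηθη = dg η θ η hηθη * s2
    rw [s2_dg]
  have r6 : (x0 * x1) * (y1 * x1) = y1 := by
    apply Subtype.ext
    rw [hx0', hx1', hy1]
    show (dg θ η η hθη * dg η θ η hηθη) * (s1 * dg η θ η hηθη) = s1
    rw [s1_dg, ← mul_assoc, dg_mul, dg_mul]
    have e : ∀ {a b c : F} {h : a * b * c = 1}, a = 1 → b = 1 → c = 1 → dg a b c h * s1 = s1 := by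
      intro a b c h h1 h2 h3
      subst h1 h2 h3
      rw [dg_one, one_mul]
    exact e (by rw [← hθη]) (by rw [← hθη]; ring) (by rw [← hθη]; ring)
  have r7 : (x0 * x1) * (y2 * x0) = y2 := by
    apply Subtype.ext
    rw [hx0', hx1', hy2]
    show (dg θ η η hθη * dg η θ η hηθη) * (s2 * dg θ η η hθη) = s2
    rw [s2_dg, ← mul_assoc, dg_mul, dg_mul]
    have e : ∀ {a b c : F} {h : a * b * c = 1}, a = 1 → b = 1 → c = 1 → dg a b c h * s2 = s2 := by
      intro a b c h h1 h2 h3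
      subst h1 h2 h3
      rw [dg_one, one_mul]
    exact e (by rw [← hθη]) (by rw [← hθη]; ring) (by rw [← hθη]; ring)
  let π := QuotientGroup.mk' (Subgroup.center (SU 3 F Q))
  refine ⟨![π x0, π x1], π y1, π y2, ?_, ?_, ?_, ?_, ?_, ?_, ?_⟩
  · intro i
    fin_cases i
    · show π x0 ^ s = 1
      rw [← map_pow, r1, map_one]
    · show π x1 ^ s = 1
      rw [← map_pow, r2, map_one]
  · show π x0 * π x1 = π x1 * π x0
    rw [← map_mul, r3, map_mul]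
  · intro c hc
    have h1 : π (x0 ^ c 0 * x1 ^ c 1) = 1 := by
      rw [map_mul, map_pow, map_pow]
      exact hc
    have h2 : x0 ^ c 0 * x1 ^ c 1 ∈ Subgroup.center (SU 3 F Q) := (QuotientGroup.eq_one_iff _).1 h1
    rw [Subgroup.mem_center_iff] at h2
    have h3 := congrArg Subtype.val (h2 y1)
    have h4 := congrArg Subtype.val (h2 y2)
    rw [hx0', hx1', hy1] at h3
    rw [hx0', hx1', hy2] at h4
    have e3 : s1 * (dg θ η η hθη ^ c 0 * dg η θ η hηθη ^ c 1) = (dg θ η η hθη ^ c 0 * dg η θ η hηθη ^ c 1) * s1 := h3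
    have e4 : s2 * (dg θ η η hθη ^ c 0 * dg η θ η hηθη ^ c 1) = (dg θ η η hθη ^ c 0 * dg η θ η hηθη ^ c 1) * s2 := h4
    rw [dg_pow, dg_pow, dg_mul, s1_dg] at e3
    rw [dg_pow, dg_pow, dg_mul, s2_dg] at e4
    obtain ⟨-, e5, -⟩ := dg_inj (mul_right_cancel e3)
    obtain ⟨e6, -, -⟩ := dg_inj (mul_right_cancel e4)
    have key : ∀ n : ℕ, θ ^ n = η ^ n → s ∣ n := by
      intro n hn
      have h6 : η ^ (3 * n) = 1 := by
        have h7 : (θ * η * η) ^ n = 1 := by rw [hθη, one_pow]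
        rw [mul_pow, mul_pow, hn] at h7
        rw [← h7]; ring
      have h7 : s ∣ 3 * n := hord ▸ orderOf_dvd_of_pow_eq_one h6
      rcases hs.dvd_mul.1 h7 with h8 | h8
      · have := Nat.le_of_dvd (by norm_num) h8
        omega
      · exact h8
    intro i
    fin_cases i
    · apply key
      exact mul_right_cancel₀ (pow_ne_zero _ hη0) e6.symm
    · apply key
      exact mul_left_cancel₀ (pow_ne_zero _ hη0) e5.symm
  · show π y1 * π x0 = π x0 * π y1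
    rw [← map_mul, r4, map_mul]
  · show π y1 * π x1 = (π x0 * π x1)⁻¹ * π y1
    rw [eq_inv_mul_iff_mul_eq, ← map_mul, ← map_mul, ← map_mul, r6]
  · show π y2 * π x1 = π x1 * π y2
    rw [← map_mul, r5, map_mul]
  · show π y2 * π x0 = (π x0 * π x1)⁻¹ * π y2
    rw [eq_inv_mul_iff_mul_eq, ← map_mul, ← map_mul, ← map_mul, r7]

end SU

/-- **`F₄(q)` has no subgroup `PSU₃(q²)`.** -/
theorem no_U3 {K : Type} [Field K] [Fintype K] {q : ℕ} (hK : Fintype.card K = q) {S : Type} [Group S]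
    (hS : IsNamed (.psu 3 (q ^ 2)) S) (φ : S →* ↥(chevF4.group K)) (hφ : Function.Injective φ) : False := by
  have hq2 : 2 ≤ q := by
    rw [← hK]
    exact Fintype.one_lt_card
  obtain ⟨s, hs⟩ := exists_prim (q := q) (e := 4) hq2 (by norm_num) (by omega)
  have h5 : 5 ≤ s := by
    have := Cfsg.Agent.H563.KG.lt_of_prim hq2 (by norm_num) hs
    omega
  have hsq : s ∣ q ^ 2 + 1 := hs.dvd_add (by norm_num) (by norm_num)
  obtain ⟨F, _, _, hF, ⟨Φ⟩⟩ : ∃ (F : Type) (_ : Field F) (_ : Fintype F), Fintype.card F = (q ^ 2) ^ 2 ∧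
      Nonempty (S ≃* PSU 3 F (q ^ 2)) := hS.real
  obtain ⟨e, n₁, n₂, h1, h2, h3, h4, h6, h7, h8⟩ := exists_conf hF hs.prime h5 hsq
  let ψ : PSU 3 F (q ^ 2) →* ↥(chevF4.group K) := φ.comp Φ.symm.toMonoidHom
  have hψ : Function.Injective ψ := hφ.comp Φ.symm.injective
  refine no_tor hK hs.prime h5 hsq (e := fun i => ψ (e i)) (n₁ := ψ n₁) (n₂ := ψ n₂) ?_ ?_ ?_ ?_ ?_ ?_ ?_
  · intro i
    show ψ (e i) ^ s = 1
    rw [← map_pow, h1, map_one]
  · rw [← map_mul, h2, map_mul]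
  · intro c hc
    apply h3 c
    apply hψ
    rw [map_one, ← hc, map_mul, map_pow, map_pow]
  · rw [← map_mul, h4, map_mul]
  · rw [← map_mul, ← map_mul, ← map_inv, ← map_mul, h6]
  · rw [← map_mul, h7, map_mul]
  · rw [← map_mul, ← map_mul, ← map_inv, ← map_mul, h8]

end Cfsg.Agent.H824.Wei
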