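import Cfsg.Agent.H824.Wei.KillG2
import Cfsg.Agent.H824.Wei.KillU3
import Cfsg.Agent.H563.KG.Full
import Cfsg.Agent.H56.Wei.Defs

/-!
# Overgroups of the torus of class 12 of `F₄(q)`, `q > 2` (helper824)

`over_F4` : a proper subgroup of `F₄(q)`, `q > 2`, containing an element `x` of order `q^4 - q^2 + 1`, normalises `⟨x⟩` or
has a simple normal subgroup `³D₄(q)` with trivial centraliser, which contains `x`.
-/

set_option autoImplicit false

namespace Cfsg.Agent.H824.Wei

open Cfsg Cfsg.Agent.OrdDiv Cfsg.Agent.H436 Cfsg.Agent.H56.Wei Cfsg.Agent.H563.KG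

universe u v

/-- transport of `Over` along an isomorphism -/
theorem over_congr {T : Type u} [Group T] {T' : Type v} [Group T'] (e : T ≃* T') {x : T} {P : Grp → Prop}
    (hP : ∀ g, P g → ∀ (S : Type u) [Group S] (S' : Type v) [Group S'], (S ≃* S') → IsNamed g S' → IsNamed g S)
    (h : Over (e x) P) : Over x P := by
  intro H hx hH
  have hx' : e x ∈ H.map e.toMonoidHom := ⟨x, hx, rfl⟩
  have hH' : H.map e.toMonoidHom ≠ ⊤ := by
    intro h1
    apply hH
    rw [eq_top_iff]
    intro y _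
    have h2 : e y ∈ H.map e.toMonoidHom := by rw [h1]; exact Subgroup.mem_top _
    obtain ⟨z, hz, hzy⟩ := h2
    rwa [← e.injective hzy]
  rcases h _ hx' hH' with h1 | ⟨S, hSn, hSs, hSna, hSc, hxS, g, hg, hgS⟩
  · left
    intro y hy
    have h2 := h1 ⟨y, hy, rfl⟩
    rw [Subgroup.mem_normalizer_iff] at h2 ⊢
    have key : ∀ a : T, a ∈ Subgroup.zpowers x ↔ e a ∈ Subgroup.zpowers (e x) := by
      intro a
      constructor
      · rintro ⟨k, rfl⟩
        exact ⟨k, (map_zpow e x k).symm⟩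
      · rintro ⟨k, hk⟩
        refine ⟨k, e.injective ?_⟩
        rw [map_zpow]
        exact hk
    intro a
    have h3 := h2 (e a)
    rw [key, key, h3]
    have e1 : e.toMonoidHom y * e a * (e.toMonoidHom y)⁻¹ = e (y * a * y⁻¹) := by
      rw [map_mul, map_mul, map_inv]; rfl
    rw [e1]
  · right
    have hf0 : ∀ y : H, e (y : T) ∈ H.map e.toMonoidHom := fun y => ⟨y, y.2, rfl⟩
    let f : H ≃* ↥(H.map e.toMonoidHom) := H.equivMapOfInjective e.toMonoidHom e.injective
    have hf : ∀ y : H, ((f y : ↥(H.map e.toMonoidHom)) : T') = e (y : T) := fun y => rfl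
    have hSn' : S.Normal := hSn
    let S₁ : Subgroup H := S.comap f.toMonoidHom
    have hmem : ∀ y : H, y ∈ S₁ ↔ f y ∈ S := fun y => Iff.rfl
    have hn : S₁.Normal := hSn.comap _
    -- the isomorphism
    let φ : ↥S₁ ≃* ↥S :=
      { toFun := fun y => ⟨f y.1, y.2⟩
        invFun := fun y => ⟨f.symm y.1, by rw [hmem, MulEquiv.apply_symm_apply]; exact y.2⟩
        left_inv := fun y => Subtype.ext (f.symm_apply_apply _)
        right_inv := fun y => Subtype.ext (f.apply_symm_apply _)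
        map_mul' := fun a b => Subtype.ext (map_mul f _ _) }
    have hs : IsSimpleGroup ↥S₁ := by
      have := hSs
      exact φ.isSimpleGroup
    refine ⟨S₁, hn, hs, ?_, ?_, ?_, g, hg, hP g hg _ _ φ hgS⟩
    · intro hc
      apply hSna
      refine ⟨⟨fun a b => ?_⟩⟩
      apply φ.symm.injective
      rw [map_mul, map_mul]
      exact hc.is_comm.comm _ _
    · rw [eq_bot_iff]
      intro c hcc
      rw [Subgroup.mem_bot]
      have h3 : f c ∈ Subgroup.centralizer (S : Set ↥(H.map e.toMonoidHom)) := by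
        rw [Subgroup.mem_centralizer_iff]
        intro a ha
        have h4 : f.symm a ∈ S₁ := by rw [hmem, MulEquiv.apply_symm_apply]; exact ha
        have h5 := Subgroup.mem_centralizer_iff.1 hcc _ h4
        have h6 := congrArg f h5
        rwa [map_mul, map_mul, MulEquiv.apply_symm_apply] at h6
      rw [hSc, Subgroup.mem_bot] at h3
      exact f.injective (by rw [h3, map_one])
    · rw [hmem]
      exact hxS

/-- **Overgroups of the torus of class 12 of `F₄(q)`, `q > 2`, in the matrix group.** -/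
theorem over_F4_mat {F : Type} [Field F] [Fintype F] {q : ℕ} (hF : Fintype.card F = q) (hq : 2 < q)
    {x : ↥(Lie.chevF4.group F)} (hx : orderOf x = q ^ 4 - q ^ 2 + 1) : Over x (fun g => g = .td4 q) := by
  intro H hxH hH
  rcases red_F4 table cycFixSolv cf hF hq H hx hxH hH with h | ⟨S, hSn, hSs, hSna, hSc, hxS, g, hg, hcase⟩
  · left
    intro y hy
    rw [Subgroup.mem_normalizer_iff]
    have key : ∀ a : ↥(Lie.chevF4.group F), ∀ y ∈ H, a ∈ Subgroup.zpowers x → y * a * y⁻¹ ∈ Subgroup.zpowers x := by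
      rintro _ y hy ⟨k, rfl⟩
      have h1 : (⟨y, hy⟩ : H) * (⟨x, hxH⟩ : H) ^ k * (⟨y, hy⟩ : H)⁻¹ ∈ Subgroup.zpowers (⟨x, hxH⟩ : H) :=
        h.conj_mem _ ⟨k, rfl⟩ _
      obtain ⟨m, hm⟩ := h1
      exact ⟨m, congrArg Subtype.val hm⟩
    intro a
    refine ⟨key a y hy, fun h1 => ?_⟩
    have h2 := key _ _ (inv_mem hy) h1
    have e1 : y⁻¹ * (y * a * y⁻¹) * y⁻¹⁻¹ = a := by group
    rwa [e1] at h2
  · right
    refine ⟨S, hSn, hSs, hSna, hSc, hxS, g, ?_, hg⟩
    have hfin : Finite ↥(Lie.chevF4.group F) := inferInstance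
    rcases hcase with rfl | rfl | rfl
    · exact (no_U3 hF hg (H.subtype.comp S.subtype) (H.subtype_injective.comp S.subtype_injective)).elim
    · exact (no_G2 hF hq hg (H.subtype.comp S.subtype) (H.subtype_injective.comp S.subtype_injective)).elim
    · rfl

/-- **Overgroups of the torus of class 12 of `F₄(q)`, `q > 2`.** -/
theorem over_F4 {T : Type*} [Group T] [Finite T] {q : ℕ} (hq : 2 < q) (hT : IsNamed (.f4 q) T) (x : T)
    (hx : orderOf x = q ^ 4 - q ^ 2 + 1) : Over x (fun g => g = .td4 q) := by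
  obtain ⟨F, _, _, hF, ⟨e⟩⟩ := hT.real
  refine over_congr e ?_ (over_F4_mat hF hq (x := e x) (by rw [MulEquiv.orderOf_eq, hx]))
  rintro g rfl S _ S' _ f hS
  obtain ⟨F', i1, i2, h1, ⟨e'⟩⟩ := hS.real
  exact ⟨⟨F', i1, i2, h1, ⟨f.trans e'⟩⟩, hS.cond, by rw [Nat.card_congr f.toEquiv]; exact hS.eq,
    by rw [Nat.card_congr f.toEquiv]; exact hS.ord⟩

end Cfsg.Agent.H824.Wei
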