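import Cfsg.Agent.H824.Wei.Red
import Cfsg.Agent.H378.OmF4
import Cfsg.Agent.H129.CycCard

/-!
# `F₄(q)` has no subgroup `G₂(q²)` (helper824)

An element of `F₄(q)` has no order divisible by a primitive prime of `q^3 - 1` and one of `q^6 - 1`.
-/

set_option autoImplicit false

namespace Cfsg.Agent.H824.Wei

open Cfsg Cfsg.Agent.OrdDiv Cfsg.Agent.H436 Cfsg.Agent.H264.FKS Cfsg.Lie

/-- the orders of `F₄(q)` -/
theorem no_36 {K : Type} [Field K] [Fintype K] {q : ℕ} (hK : Fintype.card K = q) (a : ↥(chevF4.group K)) {s t : ℕ}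
    (hs : Prim q 3 s) (ht : Prim q 6 t) (hsa : s ∣ orderOf a) (hta : t ∣ orderOf a) : False := by
  obtain ⟨p, f, hch, hp, hf, hq⟩ := Cfsg.Agent.H563.KG.exists_pf K
  have := Fact.mk hp
  obtain ⟨b, m, h⟩ := Cfsg.Agent.H378.OmF4.om_F4 (p := p) (K := K) (q := q) (by rw [Nat.card_eq_fintype_card, hK]) a
  obtain rfl : q = p ^ f := by rw [← hK, hq]
  have hq1 : 1 ≤ p ^ f := Nat.one_le_pow _ _ hp.pos
  rw [h.eq] at hsa hta
  have hpq : p ∣ p ^ f := dvd_pow_self p (by omega)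
  have key : ∀ {r e : ℕ}, Prim (p ^ f) e r → r ∣ p ^ b * m → r ∣ m := by
    intro r e hr h1
    rcases hr.prime.dvd_mul.1 h1 with h2 | h2
    · exact absurd ((hr.prime.dvd_of_dvd_pow h2).trans hpq) hr.not_dvd
    · exact h2
  have hsm := key hs hsa
  have htm := key ht hta
  have hs2 : ¬ s ∣ 2 := hs.not_dvd_two (by norm_num)
  -- `s` does not divide `q^3 + 1`
  have hs3 : ¬ s ∣ (p ^ f) ^ 3 + 1 := by
    intro h1
    have h2 : s ∣ (p ^ f) ^ 3 - 1 := hs.dvd dvd_rfl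
    have h3 : s ∣ ((p ^ f) ^ 3 + 1) - ((p ^ f) ^ 3 - 1) := Nat.dvd_sub h1 h2
    have h4 : 1 ≤ (p ^ f) ^ 3 := Nat.one_le_pow _ _ hq1
    have h5 : ((p ^ f) ^ 3 + 1) - ((p ^ f) ^ 3 - 1) = 2 := by omega
    rw [h5] at h3
    exact hs2 h3
  have hs6 : ¬ s ∣ (p ^ f) ^ 6 + 1 := by
    intro h1
    have h2 : s ∣ (p ^ f) ^ 6 - 1 := hs.dvd (by norm_num)
    have h3 : s ∣ ((p ^ f) ^ 6 + 1) - ((p ^ f) ^ 6 - 1) := Nat.dvd_sub h1 h2
    have h4 : 1 ≤ (p ^ f) ^ 6 := Nat.one_le_pow _ _ hq1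
    have h5 : ((p ^ f) ^ 6 + 1) - ((p ^ f) ^ 6 - 1) = 2 := by omega
    rw [h5] at h3
    exact hs2 h3
  rcases h.s0 with h1 | h1 | h1 | h1 | h1
  · -- `Φ₁₂`
    apply hs6
    refine (hsm.trans h1).trans ⟨(p ^ f) ^ 2 + 1, ?_⟩
    have h2 : (p ^ f) ^ 2 ≤ (p ^ f) ^ 4 := Nat.pow_le_pow_right hq1 (by norm_num)
    zify [h2]
    ring
  · -- `Φ₈`
    have h2 : s ∣ (p ^ f) ^ 8 - 1 := by
      refine (hsm.trans h1).trans ⟨(p ^ f) ^ 4 - 1, ?_⟩
      have h2 : 1 ≤ (p ^ f) ^ 4 := Nat.one_le_pow _ _ hq1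
      have h3 : 1 ≤ (p ^ f) ^ 8 := Nat.one_le_pow _ _ hq1
      zify [h2, h3]
      ring
    exact hs.not_dvd_sub (by norm_num) h2
  · exact hs.not_dvd_sub (m := 4) (by norm_num) (hsm.trans h1)
  · rcases ht.prime.dvd_mul.1 (htm.trans h1) with h2 | h2
    · exact ht.not_dvd_sub (m := 3) (by norm_num) h2
    · exact ht.not_dvd_qadd (by norm_num) h2
  · rcases hs.prime.dvd_mul.1 (hsm.trans h1) with h2 | h2
    · exact hs3 h2
    · exact hs.not_dvd_qsub (by norm_num) h2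

/-- `G₂(q²)` has an element of order divisible by two primitive primes -/
theorem exists_36 {q s t : ℕ} (hs : Prim q 3 s) (ht : Prim q 6 t) {S : Type} [Group S] [Finite S]
    (hS : IsNamed (.g2 (q ^ 2)) S) : ∃ a : S, s ∣ orderOf a ∧ t ∣ orderOf a := by
  obtain ⟨F, _, _, hF, ⟨e⟩⟩ : ∃ (F : Type) (_ : Field F) (_ : Fintype F), Fintype.card F = q ^ 2 ∧
      Nonempty (S ≃* ↥(chevG2.group F)) := hS.real
  have hq2 : 2 ≤ q ^ 2 := by
    have h1 := hS.cond.1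
    omega
  have hq1 : 1 ≤ q := by
    rcases Nat.eq_zero_or_pos q with rfl | h
    · norm_num at hq2
    · exact h
  have hs7 := hs.not_dvd_qsub (by norm_num : 3 ≤ 3)
  have hs1 : s ∣ 1 + q ^ 2 + (q ^ 2) ^ 2 := by
    -- `(q - 1) (q + 1) (q^4 + q^2 + 1) = q^6 - 1`
    have h1 : s ∣ (q ^ 2 - 1) * (1 + q ^ 2 + (q ^ 2) ^ 2) := by
      have h2 : (q ^ 2 - 1) * (1 + q ^ 2 + (q ^ 2) ^ 2) = q ^ 6 - 1 := by
        have h3 : 1 ≤ q ^ 2 := Nat.one_le_pow _ _ hq1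
        have h4 : 1 ≤ q ^ 6 := Nat.one_le_pow _ _ hq1
        zify [h3, h4]
        ring
      rw [h2]
      exact hs.dvd (by norm_num)
    rcases hs.prime.dvd_mul.1 h1 with h2 | h2
    · exact absurd h2 (hs.not_dvd_sub (by norm_num))
    · exact h2
  have ht1 : t ∣ 1 + q ^ 2 + (q ^ 2) ^ 2 := by
    have h1 : t ∣ (q ^ 2 - 1) * (1 + q ^ 2 + (q ^ 2) ^ 2) := by
      have h2 : (q ^ 2 - 1) * (1 + q ^ 2 + (q ^ 2) ^ 2) = q ^ 6 - 1 := by
        have h3 : 1 ≤ q ^ 2 := Nat.one_le_pow _ _ hq1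
        have h4 : 1 ≤ q ^ 6 := Nat.one_le_pow _ _ hq1
        zify [h3, h4]
        ring
      rw [h2]
      exact ht.dvd (by norm_num)
    rcases ht.prime.dvd_mul.1 h1 with h2 | h2
    · exact absurd h2 (ht.not_dvd_sub (by norm_num))
    · exact h2
  have hs3 : s ≠ 3 := by
    have h1 : 2 ≤ q := by
      by_contra h2
      have h3 : q = 1 := by omega
      subst h3
      norm_num at hq2
    have := Cfsg.Agent.H563.KG.lt_of_prim h1 (by norm_num) hs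
    omega
  obtain ⟨T, hT, -, hm, -, -⟩ := Cfsg.Agent.H129.CycCard.card_G2_3 (F := F) hF (m := 1 + q ^ 2 + (q ^ 2) ^ 2) (by push_cast; ring)
    hs.prime (by exact_mod_cast hs1) hs3
  rw [one_mul] at hm
  obtain ⟨g, hg⟩ := hT.exists_generator
  have hgo : orderOf g = Nat.card T := orderOf_eq_card_of_forall_mem_zpowers hg
  refine ⟨e.symm (g : ↥(chevG2.group F)), ?_, ?_⟩
  · rw [MulEquiv.orderOf_eq, Subgroup.orderOf_coe, hgo]
    exact hs1.trans hm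
  · rw [MulEquiv.orderOf_eq, Subgroup.orderOf_coe, hgo]
    exact ht1.trans hm

/-- **`F₄(q)` has no subgroup `G₂(q²)`.** -/
theorem no_G2 {K : Type} [Field K] [Fintype K] {q : ℕ} (hK : Fintype.card K = q) (hq2 : 2 < q) {S : Type} [Group S]
    [Finite S] (hS : IsNamed (.g2 (q ^ 2)) S) (φ : S →* ↥(chevF4.group K)) (hφ : Function.Injective φ) : False := by
  obtain ⟨s, hs⟩ := exists_prim (q := q) (e := 3) (by omega) (by norm_num) (by omega)
  obtain ⟨t, ht⟩ := exists_prim (q := q) (e := 6) (by omega) (by norm_num) (by omega)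
  obtain ⟨a, h1, h2⟩ := exists_36 hs ht hS
  rw [← orderOf_injective φ hφ a] at h1 h2
  exact no_36 hK (φ a) hs ht h1 h2

end Cfsg.Agent.H824.Wei
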