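import Cfsg.Agent.H563.KG.KF4
import Cfsg.Agent.H363.Wei.One
import Cfsg.Agent.H363.Wei.Alt
import Cfsg.Agent.H351.CovF4.Name

/-!
# Overgroups of the torus of class 12 of `F₄(q)`, `q > 2`: the simple group and its name (helper824)
-/

set_option autoImplicit false
set_option exponentiation.threshold 700

namespace Cfsg.Agent.H824.Wei

open Cfsg Cfsg.Agent.OrdDiv Cfsg.Agent.H436 Cfsg.Agent.H902 Cfsg.Agent.H902.Names Cfsg.Agent.H915.GN
  Cfsg.Agent.H290.ElReg Cfsg.Agent.H290.ElTab Cfsg.Agent.H290.ElCross Cfsg.Agent.H264.FKS Cfsg.Agent.H56.Exc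
  Cfsg.Agent.H325.Loc Cfsg.Agent.H563.KG

/-- **The simple normal subgroup.** -/
theorem core (hE : CycFixSolv.{0}) {M E n p : ℕ} (hM : 1 < M) (hE0 : 0 < E) (hEM : E < M + 1) (hp : p.Prime)
    {F : Type} [Field F] [CharP F p]
    {T : Type} [Group T] [Finite T] (hrep : Fth n F T) (hbig : ∀ r, r.Prime → r ∣ M → Big T r M E)
    {r₀ : ℕ} (hr₀ : r₀.Prime) (hr₀M : r₀ ∣ M) (hpiso : PIso p r₀ T) {B : Subgroup T} {x : T} (hx : orderOf x = M)
    (hxB : x ∈ B)
    (hgood : ∀ t : ℕ, t.Prime → t ≠ p → ¬ t ∣ M → t ∣ Nat.card B → Good B n t) :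
    (Subgroup.zpowers (⟨x, hxB⟩ : B)).Normal ∨
    ∃ (S : Subgroup B) (_ : S.Normal) (_ : IsSimpleGroup S), ¬ IsMulCommutative S ∧
      Subgroup.centralizer (S : Set B) = ⊥ ∧ (⟨x, hxB⟩ : B) ∈ S ∧
      (∀ r, r.Prime → r ∣ M → Big S r M E) ∧ ∃ n k, S.index * n ∣ E ∧ Nat.card S = n * M * (1 + k * M) := by
  have := Fact.mk hp
  have hxo : orderOf (⟨x, hxB⟩ : B) = M := by rw [Subgroup.orderOf_mk, hx]
  have hMB : M ∣ Nat.card B := hxo ▸ orderOf_dvd_natCard (⟨x, hxB⟩ : B)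
  obtain ⟨τ, hτ⟩ := hrep.sub B.subtype B.subtype_injective
  have hr₀B : r₀ ∣ Nat.card B := hr₀M.trans hMB
  have hred : Red ↥B (fun r => r.Prime ∧ r ∣ M) := by
    refine red_of hE hτ (fun A hA hAp => pcore_of_piso (hpiso.sub B) hr₀B A hA hAp)
      (r := r₀) ⟨hr₀, hr₀M⟩ hr₀ hr₀B
      (fun x hx => ((hbig r₀ hr₀ hr₀M).subgroup B).cyc x hx) fun t ht htp htn htB => ?_
    rw [Fintype.card_fin]
    exact hgood t ht htp (fun h => htn ⟨ht, h⟩) htB
  rcases Cfsg.Agent.H363.Wei.one_torus hE hM (fun r h1 h2 => (hbig r h1 h2).subgroup B)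
    (Nat.mul_pos hE0 (by omega)) (by rw [mul_comm]; exact Nat.mul_lt_mul_of_pos_left hEM (by omega)) hxo hred with h | ⟨S, hSn, hSs, hSna, hSc, hxS, hSb, -⟩
  · exact Or.inl h
  · have hSs' : IsSimpleGroup S := hSs
    exact Or.inr ⟨S, hSn, hSs, hSna, hSc, hxS, fun r h1 h2 => (hSb r h1 h2).1,
      Cfsg.Agent.H351.CovF4.count hM (fun r h1 h2 => (hbig r h1 h2).subgroup B) hxo S hxS⟩

/-! ### tables -/

/-- the small fields, `q > 2` -/
def sm3 : List (ℕ × ℕ) := [(3, 3), (2, 4), (5, 5), (7, 7)]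

/-- the test -/
def svR3 (n : ℕ) (Y : Art.Sh) (cls : List ℕ) : Bool := (reg n).all fun x => sm3.all fun y =>
  y.1 == x.2.1 || !(tq Y cls (OL x.1 (x.2.1 ^ x.2.2)) (Art.dd x.1 (x.2.1 ^ x.2.2)) y.2)

/-- the test, sporadic groups -/
def svS3 (Y : Art.Sh) (cls : List ℕ) : Bool :=
  Cfsg.Agent.OrdDiv.spor.all fun x => sm3.all fun y => !(tq Y cls x.2 1 y.2)

theorem svR3_F4 : svR3 52 .F4 [12] = true := by decide +kernel
theorem svS3_F4 : svS3 .F4 [12] = true := by decide +kernel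


theorem mem_sm3 {p f : ℕ} (hp : p.Prime) (hf : 1 ≤ f) (h2 : 2 < p ^ f) (h : p ^ f ≤ 7) : (p, p ^ f) ∈ sm3 := by
  have h1 := mem_sm hp hf h
  simp only [sm, List.mem_cons, Prod.mk.injEq, List.not_mem_nil, or_false] at h1
  simp only [sm3, List.mem_cons, Prod.mk.injEq, List.not_mem_nil, or_false]
  omega

variable {n : ℕ} {Y : Art.Sh} {cls : List ℕ} {e₀ p f : ℕ}

/-- **Cross characteristic.** -/
theorem no_cross3 (hn : n ≤ 248) (hb : bndR n e₀ = true) (hs : svR3 n Y cls = true) (he₀ : Cls e₀) (hmem : e₀ ∈ cls)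
    (hle : ∀ q, ncl e₀ q ≤ 2701 → q ≤ 7) {X : Art.Sh} {l a N : ℕ}
    (hR : Art.Real X l a N) (hlb : lb X (l ^ a) ≤ n) (hp : p.Prime) (hf : 1 ≤ f) (hq3 : 2 < p ^ f) (hpl : p ≠ l)
    (hcls : ∀ e ∈ cls, ncl e (p ^ f) ∣ N) (hd : N ∣ OL Y (p ^ f)) : False := by
  obtain ⟨hl, ha, hokX, heq⟩ := hR
  have hq : 2 ≤ p ^ f := hp.two_le.trans (Nat.le_self_pow (by omega) p)
  have hreg := mem_reg hn hl ha hokX hlb
  have hs' : smooth (NA X l a) = true :=
    List.all_eq_true.1 smooth_reg (X, (l, a)) (mem_reg le_rfl hl ha hokX (hlb.trans hn))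
  have hsS : smooth (NS X l a) = true := by
    have h1 : NS X l a ∣ NA X l a := Dvd.intro_left _ rfl
    have h2 : NA X l a ∣ prs.prod ^ 100 := Nat.dvd_of_mod_eq_zero (by simpa [smooth] using hs')
    simpa [smooth] using Nat.mod_eq_zero_of_dvd (h1.trans h2)
  have hM : OL X (l ^ a) = Art.dd X (l ^ a) * N := by unfold OL; rw [numL_eq]; exact heq.symm
  have hNM : N ∣ OL X (l ^ a) := Dvd.intro_left _ hM.symm
  have hNS : ∀ r, r.Prime → r ∣ N → r ∣ NS X l a := by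
    intro r hr h
    unfold NS
    have h1 : r ∣ (l ^ a) ^ Art.NN X * numL X (l ^ a) := h.trans hNM
    rcases hr.dvd_mul.1 h1 with h2 | h2
    · exact (hr.dvd_of_dvd_pow (hr.dvd_of_dvd_pow h2)).mul_right _
    · exact h2.mul_left _
  have hb' := List.all_eq_true.1 hb (X, (l, a)) hreg
  simp only [Bool.and_eq_true, Nat.ble_eq, Nat.blt_eq] at hb'
  have hM0 : OL X (l ^ a) ≠ 0 := by
    intro h0
    have h1 := List.all_eq_true.1 hs (X, (l, a)) hreg
    -- `M = 0` is impossible: `De 0 = ...`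
    have h2 : ncl e₀ (p ^ f) ∣ N := hcls e₀ hmem
    have h3 : l ^ a ≠ 0 := pow_ne_zero _ hl.ne_zero
    have h4 : NS X l a ≠ 0 := by
      intro h5
      have h6 : NS X l a ∣ prs.prod ^ 100 := Nat.dvd_of_mod_eq_zero (by simpa [smooth] using hsS)
      rw [h5] at h6
      have h7 := Nat.eq_zero_of_zero_dvd h6
      have h8 : prs.prod ≠ 0 := by decide +kernel
      exact pow_ne_zero 100 h8 h7
    apply h4
    unfold OL at h0
    rcases Nat.mul_eq_zero.1 h0 with h5 | h5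
    · exact absurd h5 (pow_ne_zero _ h3)
    · unfold NS
      rw [h5, mul_zero]
  have h1 : ncl e₀ (p ^ f) ∣ De (pd (NS X l a)) (OL X (l ^ a)) e₀ := by
    refine dvd_De hM0 hb'.2 ((hcls e₀ hmem).trans hNM) fun r hr hrd => ?_
    have hprim := prim_of_dvd he₀ (by omega) hr hrd
    exact ⟨mem_pd hsS hr (hNS r hr (hrd.trans (hcls e₀ hmem))), mod_of_prim hq (by
      have := he₀.ge
      omega) hprim⟩
  have h2 : ncl e₀ (p ^ f) ≤ 2701 := by
    have h3 : De (pd (NS X l a)) (OL X (l ^ a)) e₀ ≠ 0 := by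
      unfold De
      intro h4
      rw [List.prod_eq_zero_iff, List.mem_map] at h4
      obtain ⟨r, -, h5⟩ := h4
      exact hM0 (Nat.eq_zero_of_gcd_eq_zero_left h5)
    exact (Nat.le_of_dvd (Nat.pos_of_ne_zero h3) h1).trans hb'.1
  have h3 := mem_sm3 hp hf hq3 (hle _ h2)
  have h4 := List.all_eq_true.1 (List.all_eq_true.1 hs (X, (l, a)) hreg) _ h3
  rw [tq_of (fun e he => (hcls e he).trans hNM) hM hd] at h4
  simp at h4
  exact hpl h4

/-- **Sporadic groups.** -/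
theorem no_spor3 (hb : bndS e₀ = true) (hs : svS3 Y cls = true) (he₀ : Cls e₀) (hmem : e₀ ∈ cls)
    (hle : ∀ q, ncl e₀ q ≤ 2701 → q ≤ 7) {x : Cfsg.Agent.OrdDiv.Grp × ℕ} (hx : x ∈ Cfsg.Agent.OrdDiv.spor)
    (hp : p.Prime) (hf : 1 ≤ f) (hq3 : 2 < p ^ f)
    (hcls : ∀ e ∈ cls, ncl e (p ^ f) ∣ x.2) (hd : x.2 ∣ OL Y (p ^ f)) : False := by
  have hq : 2 ≤ p ^ f := hp.two_le.trans (Nat.le_self_pow (by omega) p)
  have hs' : smooth x.2 = true := List.all_eq_true.1 smooth_spor x hx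
  have hb' := List.all_eq_true.1 hb x hx
  simp only [Bool.and_eq_true, Nat.ble_eq, Nat.blt_eq] at hb'
  have hM0 : x.2 ≠ 0 := by
    have : ∀ x ∈ Cfsg.Agent.OrdDiv.spor, x.2 ≠ 0 := by decide +kernel
    exact this x hx
  have h1 : ncl e₀ (p ^ f) ∣ De (pd x.2) x.2 e₀ := by
    refine dvd_De hM0 hb'.2 (hcls e₀ hmem) fun r hr hrd => ?_
    have hprim := prim_of_dvd he₀ (by omega) hr hrd
    exact ⟨mem_pd hs' hr (hrd.trans (hcls e₀ hmem)), mod_of_prim hq (by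
      have := he₀.ge
      omega) hprim⟩
  have h2 : ncl e₀ (p ^ f) ≤ 2701 := by
    have h3 : De (pd x.2) x.2 e₀ ≠ 0 := by
      unfold De
      intro h4
      rw [List.prod_eq_zero_iff, List.mem_map] at h4
      obtain ⟨r, -, h5⟩ := h4
      exact hM0 (Nat.eq_zero_of_gcd_eq_zero_left h5)
    exact (Nat.le_of_dvd (Nat.pos_of_ne_zero h3) h1).trans hb'.1
  have h3 := mem_sm3 hp hf hq3 (hle _ h2)
  have h4 := List.all_eq_true.1 (List.all_eq_true.1 hs x hx) _ h3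
  rw [tq_of hcls (one_mul _).symm hd] at h4
  simp at h4


/-! ### the name -/

theorem name3 (tb : OrderTable.{0}) {e n d : ℕ} {Y : Art.Sh} (hn : n ≤ 248) (hb : bndR n e = true)
    (hs : svR3 n Y [e] = true) (hbS : bndS e = true) (hsS : svS3 Y [e] = true) (he : Cls e) (he7 : 7 ≤ e)
    (hle : ∀ q, ncl e q ≤ 2701 → q ≤ 7) {p f : ℕ} (hp : p.Prime) (hf : 1 ≤ f) (hq3 : 2 < p ^ f)
    (hbd : 2 * d + 4 < ncl e (p ^ f)) (hd0 : 0 < d) {M : ℕ} {F : Type} [Field F] [CharP F p] {S : Type}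
    [Group S] [Finite S] [IsSimpleGroup S] (hna : ¬ IsMulCommutative S) (hK : IsKnownSimple' S) (hrep : Fth n F S)
    (hcls : ncl e (p ^ f) ∣ Nat.card S) (hd : Nat.card S ∣ OL Y (p ^ f))
    (hbig : ∀ r, Prim (p ^ f) e r → Big S r M d) :
    ∃ g, IsNamed g S ∧ HasChar p g := by
  have hna' : ¬ ∀ a b : S, a * b = b * a := fun h => hna ⟨⟨h⟩⟩
  have hq : 2 ≤ p ^ f := by omega
  obtain ⟨g, hgS⟩ := exists_named tb hK hna'
  rcases Cfsg.Agent.H192.Singer.cases_name hgS.cond with ⟨m, rfl⟩ | hsp | ⟨l, hl, hch⟩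
  · exfalso
    obtain ⟨Φ⟩ : Nonempty (S ≃* alternatingGroup (Fin m)) := hgS.real
    have hm : 5 ≤ m := hgS.cond
    have hnil : ∀ r, Prim (p ^ f) e r → ∀ x : S, orderOf x = r →
        Group.IsNilpotent (Subgroup.centralizer ({x} : Set S)) := by
      intro r hr x hx
      have := (hbig r hr).cyc x hx
      let _ := IsCyclic.commGroup (α := ↥(Subgroup.centralizer ({x} : Set S)))
      infer_instance
    have h1 := window hq he he7 (by omega) Φ hcls hnil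
    obtain ⟨r, hr⟩ := exists_prim hq (show 3 ≤ e by omega) (by omega)
    have h2 : r ∣ Nat.card S := (dvd_ncl he (by omega) hr).trans hcls
    have h3 := Cfsg.Agent.H290.ElRich.alt_le hr.prime (by
      have := five_le_of_cls hq he7 hr
      omega) Φ h2 (hnil r hr)
    exact Cfsg.Agent.H363.Wei.not_alt (hbig r hr) hd0 h2 (by omega) Φ
  · exfalso
    have h1 := Cfsg.Agent.H192.Singer.spor_mem hsp
    have h2 : Nat.card S = ordN g := hgS.ord
    exact no_spor3 hbS hsS he (List.mem_singleton.2 rfl) hle h1 hp hf hq3 (by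
      intro e' he'
      rw [List.mem_singleton] at he'
      rw [he', ← h2]
      exact hcls) (by rw [← h2]; exact hd)
  · by_cases hpl : p = l
    · subst hpl
      exact ⟨g, hgS, hch⟩
    · exfalso
      obtain ⟨X, f₁, h1, h2, -⟩ := exists_lie hl hgS hch
      have hlF : (l : F) ≠ 0 := by
        intro h
        exact hpl ((Nat.prime_dvd_prime_iff_eq hp hl).1 ((CharP.cast_eq_zero_iff F p l).1 h))
      have h3 := lb_le hna' hn hrep h1 hgS.real h2 hlF
      exact no_cross3 hn hb hs he (List.mem_singleton.2 rfl) hle h2 h3 hp hf hq3 hpl (by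
        intro e' he'
        rw [List.mem_singleton] at he'
        rw [he']
        exact hcls) hd

end Cfsg.Agent.H824.Wei
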