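import Cfsg.Agent.H824.Wei.Name
import Cfsg.Agent.H824.Wei.CharP

/-!
# Overgroups of the torus of class 12 of `F₄(q)`, `q > 2`: reduction (helper824)
-/

set_option autoImplicit false

namespace Cfsg.Agent.H824.Wei

open Cfsg Cfsg.Agent.OrdDiv Cfsg.Agent.H436 Cfsg.Agent.H902 Cfsg.Agent.H290.ElReg Cfsg.Agent.H290.ElTab
  Cfsg.Agent.H56.Exc Cfsg.Agent.H325.Loc Cfsg.Agent.H915.GN Cfsg.Agent.H264.FKS Cfsg.Agent.H325.Same Cfsg.Agent.H325.IsoExc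
  Cfsg.Agent.H563.KG

section F4

variable {F : Type} [Field F] [Fintype F]

/-- **The overgroups: four names.** -/
theorem red_F4 (tb : OrderTable.{0}) (hcyc : CycFixSolv.{0}) (hcf : CF) {q : ℕ} (hF : Fintype.card F = q) (hq2 : 2 < q)
    (B : Subgroup ↥(Lie.chevF4.group F)) {x : ↥(Lie.chevF4.group F)} (hx : orderOf x = q ^ 4 - q ^ 2 + 1) (hxB : x ∈ B)
    (hB : B ≠ ⊤) :
    (Subgroup.zpowers (⟨x, hxB⟩ : B)).Normal ∨
    ∃ (S : Subgroup B) (_ : S.Normal) (_ : IsSimpleGroup S), ¬ IsMulCommutative S ∧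
      Subgroup.centralizer (S : Set B) = ⊥ ∧ (⟨x, hxB⟩ : B) ∈ S ∧
      ∃ g, IsNamed g S ∧ (g = .psu 3 (q ^ 2) ∨ g = .g2 (q ^ 2) ∨ g = .td4 q) := by
  obtain ⟨p, f, _, hp, hf, hq⟩ := exists_pf F
  have := Fact.mk hp
  have hfin : Finite ↥(Lie.chevF4.group F) := inferInstance
  have hT := named_f4 (F := F) tb
  rw [hq] at hT
  obtain rfl : q = p ^ f := by rw [← hF, hq]
  have hq1 : 1 ≤ p ^ f := by omega
  have hOL : num (.f4 (p ^ f)) = OL .F4 (p ^ f) := rfl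
  have hdT : Nat.card ↥(Lie.chevF4.group F) ∣ OL .F4 (p ^ f) := by
    rw [← hOL, ← hT.eq]
    exact Dvd.intro_left _ rfl
  have hPh : Ph 12 (p ^ f) = (p ^ f) ^ 4 - (p ^ f) ^ 2 + 1 := rfl
  have hncl : ncl 12 (p ^ f) = (p ^ f) ^ 4 - (p ^ f) ^ 2 + 1 := by rw [ncl12_eq, hPh]
  have hgt : 52 < ncl 12 (p ^ f) := ncl12_gt (by omega)
  set M := (p ^ f) ^ 4 - (p ^ f) ^ 2 + 1 with hM
  have hm12 : ((M : ℕ) : ℤ) = 1 - ((p ^ f : ℕ) : ℤ) ^ 2 + ((p ^ f : ℕ) : ℤ) ^ 4 := by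
    rw [← hPh, cast_Ph12 _ hq1]; ring
  have hbig : ∀ r, Prim (p ^ f) 12 r → Big ↥(Lie.chevF4.group F) r M 12 := fun r hr => big_F4_12 hF hm12 hr
  have hprim : ∀ r, r.Prime → r ∣ M → Prim (p ^ f) 12 r := fun r h1 h2 => prim_of_dvd c12 hq1 h1 (hncl ▸ h2)
  have hdvdM : ∀ r, Prim (p ^ f) 12 r → r ∣ M := fun r hr => hncl ▸ dvd_ncl c12 hq1 hr
  obtain ⟨r₀, hr₀⟩ := exists_prim (q := p ^ f) (by omega) (show 3 ≤ 12 by norm_num) (by norm_num)
  have hpiso : PIso p r₀ ↥(Lie.chevF4.group F) := piso_F4 (F := F) (Or.inr rfl) (by rw [hq]; exact hr₀)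
  have hMB : M ∣ Nat.card B := by
    have h1 := orderOf_dvd_natCard (⟨x, hxB⟩ : B)
    rwa [Subgroup.orderOf_mk, hx] at h1
  have hord : Ord B (p ^ f) 12 M := fun r hr x hx => ((hbig r hr).subgroup B).card x hx
  rcases core hcyc (M := M) (E := 12) (n := 52) (F := F) (by omega) (by norm_num) (by omega) hp fth_F4
    (fun r h1 h2 => hbig r (hprim r h1 h2)) hr₀.prime (hdvdM _ hr₀) hpiso hx hxB
    (fun t ht htp htn htB => good_one hord c12 hq1 ht htn hgt (hncl.symm ▸ hMB)) with h | ⟨S, hSn, hSs, hSna, hSc, hxS, hSb, n, k, hn, hcS⟩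
  · exact Or.inl h
  right
  refine ⟨S, hSn, hSs, hSna, hSc, hxS, ?_⟩
  have hSs' : IsSimpleGroup S := hSs
  have hrep : Fth 52 F S := Fth.sub fth_F4 (B.subtype.comp S.subtype)
    (B.subtype_injective.comp S.subtype_injective)
  have hdS : Nat.card S ∣ num (.f4 (p ^ f)) := IsNamed.card_dvd hT S
  have hMS : M ∣ Nat.card S := by
    rw [hcS]
    exact (dvd_mul_left M n).mul_right _
  obtain ⟨g, hg, hch⟩ := name3 tb (e := 12) (n := 52) (d := 12) (Y := .F4) (by norm_num) bndR_52_12 svR3_F4 bndS_12 svS3_F4 c12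
    (by norm_num) (fun _ => le_seven12) hp hf hq2 (by omega) (by norm_num) (M := M) hSna (hcf S) hrep (hncl.symm ▸ hMS)
    hdS (fun r hr => hSb r hr.prime (hdvdM r hr))
  refine ⟨g, hg, ?_⟩
  rcases charpF4 hp hf hq2 ((Dvd.intro_left _ rfl).trans hn) hg.cond hch hg.eq hdS hcS (fun s hs =>
    (hdvdM s (Cfsg.Agent.H264.GN.prim_pow hf hs)).trans hMS) with rfl | rfl | rfl | rfl
  · exact absurd (eq_top_of_name hT hg) hB
  · exact Or.inl rfl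
  · exact Or.inr (Or.inl rfl)
  · exact Or.inr (Or.inr rfl)

end F4

end Cfsg.Agent.H824.Wei
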